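import Cfsg.Agent.H35.G24Module

/-! Packed `6 × 6` matrices over the field with four elements. -/

set_option autoImplicit false

namespace H57.G24J

open H35.G24

/-- `ω` times a row. -/
def xw (r : ℕ) : ℕ := 2 * ((r &&& 1365) ^^^ ((r >>> 1) &&& 1365)) + ((r >>> 1) &&& 1365)

/-- A scalar times a row. -/
def scR (c r : ℕ) : ℕ :=
  if c = 0 then 0 else if c = 1 then r % 4096 else if c = 2 then xw (r % 4096) else r % 4096 ^^^ xw (r % 4096)

/-- An entry of a row. -/
def dig (j r : ℕ) : ℕ := (r >>> (2 * j)) % 4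

/-- A row of a matrix. -/
def row (A i : ℕ) : ℕ := (A >>> (12 * i)) % 4096

/-- A row times a matrix. -/
def rowMul (a B : ℕ) : ℕ :=
  scR (dig 0 a) (row B 0) ^^^ scR (dig 1 a) (row B 1) ^^^ scR (dig 2 a) (row B 2) ^^^
    scR (dig 3 a) (row B 3) ^^^ scR (dig 4 a) (row B 4) ^^^ scR (dig 5 a) (row B 5)

/-- The product. -/
def mulP (A B : ℕ) : ℕ :=
  rowMul (row A 0) B % 4096 + 4096 * (rowMul (row A 1) B % 4096 + 4096 * (rowMul (row A 2) B % 4096 +
    4096 * (rowMul (row A 3) B % 4096 + 4096 * (rowMul (row A 4) B % 4096 + 4096 * (rowMul (row A 5) B % 4096)))))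

/-- The identity. -/
def oneP : ℕ :=
  1 + 4096 * (4 + 4096 * (16 + 4096 * (64 + 4096 * (256 + 4096 * 1024))))

/-- The matrix of a packed matrix. -/
def decM (A : ℕ) : Matrix (Fin 6) (Fin 6) K4 :=
  Matrix.of fun i j => K4.ofN (dig j.val (row A i.val))

theorem scR_table : ∀ c : Fin 4, ∀ a : Fin 64, ∀ b : Fin 64, ∀ j : Fin 6,
    dig j.val (scR c.val (64 * a.val + b.val)) = m4 c.val (dig j.val (64 * a.val + b.val)) := by
  decide +kernel

theorem dig_scR (c r : ℕ) (hc : c < 4) {j : ℕ} (hj : j < 6) :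
    dig j (scR c r) = m4 c (dig j (r % 4096)) := by
  have := scR_table ⟨c, hc⟩ ⟨r % 4096 / 64, by omega⟩ ⟨r % 64, by omega⟩ ⟨j, hj⟩
  simp only at this
  rw [show 64 * (r % 4096 / 64) + r % 64 = r % 4096 by omega] at this
  simp only [scR, Nat.mod_mod] at this ⊢
  exact this

theorem dig_xor (j a b : ℕ) : dig j (a ^^^ b) = dig j a ^^^ dig j b := by
  simp only [dig, Nat.shiftRight_xor_distrib]
  exact Nat.xor_mod_two_pow (n := 2)

theorem dig_lt (j r : ℕ) : dig j r < 4 := Nat.mod_lt _ (by norm_num)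

theorem dig_mod (r : ℕ) {j : ℕ} (hj : j < 6) : dig j (r % 4096) = dig j r := by
  simp only [dig, Nat.shiftRight_eq_div_pow]
  interval_cases j <;> omega

theorem row_mulP (A B : ℕ) (i : Fin 6) : row (mulP A B) i.val = rowMul (row A i.val) B % 4096 := by
  have h : ∀ k, rowMul (row A k) B % 4096 < 4096 := fun k => Nat.mod_lt _ (by norm_num)
  have h0 := h 0
  have h1 := h 1
  have h2 := h 2
  have h3 := h 3
  have h4 := h 4
  have h5 := h 5
  unfold mulP row
  simp only [Nat.shiftRight_eq_div_pow]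
  fin_cases i <;> simp only [] <;> omega

theorem decM_mul (A B : ℕ) : decM (mulP A B) = decM A * decM B := by
  ext i j
  rw [Matrix.mul_apply, Fin.sum_univ_six]
  simp only [decM, Matrix.of_apply, ← K4.ofN_mul, ← K4.ofN_xor, row_mulP, dig_mod _ j.2]
  congr 1
  simp only [rowMul, dig_xor, dig_scR _ _ (dig_lt _ _) j.2]
  have hr : ∀ k, row B k % 4096 = row B k := fun k => Nat.mod_mod _ _
  simp only [hr]
  rfl

theorem decM_one : decM oneP = 1 := by
  have h : ∀ i j : Fin 6, K4.ofN (dig j.val (row oneP i.val)) = if i = j then (1 : K4) else 0 := by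
    decide +kernel
  ext i j
  rw [Matrix.one_apply]
  exact h i j

/-- The product of a list. -/
def prodP (L : List ℕ) : ℕ := L.foldr mulP oneP

theorem decM_prod : ∀ L : List ℕ, decM (prodP L) = (L.map decM).prod
  | [] => decM_one
  | a :: L => by
    show decM (mulP a (prodP L)) = _
    rw [decM_mul, decM_prod L]
    rfl

/-- An entry of a packed table. -/
def getW (w N i : ℕ) : ℕ := (N >>> (w * i)) % 2 ^ w

/-- The letters of a packed word. -/
def unWF : ℕ → ℕ → List ℕ
  | 0, _ => []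
  | f + 1, n => if n = 0 then [] else (n % 8 - 1) :: unWF f (n / 8)

/-- The letters of a packed word. -/
def unW (n : ℕ) : List ℕ := unWF 24 n

end H57.G24J
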