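import Cfsg.Agent.H57.GTwoFour.Arith
import Cfsg.Agent.H57.GTwoFour.Data
import Cfsg.Agent.H91.J2Defs

/-! Kernel checks of the tables. -/

set_option autoImplicit false
set_option maxRecDepth 20000

namespace H57.G24J

open H35.G24

/-- The `k`-th generator. -/
def gM (k : ℕ) : ℕ := getW 72 genN k
/-- The `c`-th root element. -/
def rootM (c : ℕ) : ℕ := getW 72 rootN c
/-- The `i`-th involution. -/
def uMat (i : ℕ) : ℕ := getW 72 uMatN i
/-- The word of the `i`-th involution. -/
def uWord (i : ℕ) : List ℕ :=
  unW (getW uWordW uWordN i) ++ 0 :: (unW (getW uWordW uWordN i)).reverse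
/-- The action of a generator on the cosets. -/
def piT (k i : ℕ) : ℕ := getW 9 (piN.getD k 0) i
/-- A representative. -/
def repM (i : ℕ) : ℕ := getW 72 repN i
/-- The word of a representative. -/
def repWord (i : ℕ) : List ℕ := unW (getW repWordW repWordN i)
/-- The correcting word of an edge. -/
def edgeWord (k i : ℕ) : List ℕ := unW (getW edgeW (edgeN.getD k 0) i)
/-- The effect of a word on a coset. -/
def evI (w : List ℕ) (x : ℕ) : ℕ := w.foldr piT x
/-- The matrix of a word. -/
def evP (w : List ℕ) : ℕ := prodP (w.map gM)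
/-- All letters of a word are small. -/
def below (b : ℕ) (w : List ℕ) : Bool := w.all fun a => Nat.blt a b

theorem genData_len : genData.length = 36 := rfl

theorem root_ok : ∀ c : Fin 36, acc 6 ((genData[c.val]'(by rw [genData_len]; exact c.2)).ρ) = rootM c.val := by
  decide +kernel

theorem genW_ok : ∀ k : Fin 6, below 36 (genW.getD k.val []) = true ∧
    prodP ((genW.getD k.val []).map rootM) = gM k.val := by
  decide +kernel

theorem rootW_ok : ∀ c : Fin 36, below 6 (rootW.getD c.val []) = true ∧
    evP (rootW.getD c.val []) = rootM c.val := by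
  decide +kernel

theorem sq_ok : ∀ k : Fin 6, mulP (gM k.val) (gM k.val) = oneP := by decide +kernel

theorem uMat_ok : ∀ i : Fin 315, below 5 (uWord i.val) = true ∧ evP (uWord i.val) = uMat i.val := by
  decide +kernel

theorem uMat_inj_ok : ((List.range 315).map uMat).Nodup := by decide +kernel

theorem conj_ok : ∀ k : Fin 5, ∀ i : Fin 315,
    mulP (mulP (gM k.val) (uMat i.val)) (gM k.val) = uMat (H91.J2T.tabStep k.val i.val) := by
  decide +kernel

theorem gl_ok : ∀ k : Fin 5, uMat (H91.J2T.gline.getD k.val 0) = gM k.val := by decide +kernel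

theorem pi_ok : ∀ k : Fin 6, ∀ i : Fin 416, piT k.val i.val < 416 ∧ piT k.val (piT k.val i.val) = i.val := by
  decide +kernel

theorem repWord_ok : ∀ i : Fin 416, below 6 (repWord i.val) = true ∧
    evP (repWord i.val) = repM i.val ∧ evI (repWord i.val) 0 = i.val := by
  decide +kernel

theorem rep_zero : repWord 0 = [] := by decide +kernel

theorem edge0 : ∀ i : Fin 416, below 5 (edgeWord 0 i.val) = true ∧
    mulP (gM 0) (repM i.val) = mulP (repM (piT 0 i.val)) (evP (edgeWord 0 i.val)) := by
  decide +kernel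
theorem edge1 : ∀ i : Fin 416, below 5 (edgeWord 1 i.val) = true ∧
    mulP (gM 1) (repM i.val) = mulP (repM (piT 1 i.val)) (evP (edgeWord 1 i.val)) := by
  decide +kernel
theorem edge2 : ∀ i : Fin 416, below 5 (edgeWord 2 i.val) = true ∧
    mulP (gM 2) (repM i.val) = mulP (repM (piT 2 i.val)) (evP (edgeWord 2 i.val)) := by
  decide +kernel
theorem edge3 : ∀ i : Fin 416, below 5 (edgeWord 3 i.val) = true ∧
    mulP (gM 3) (repM i.val) = mulP (repM (piT 3 i.val)) (evP (edgeWord 3 i.val)) := by
  decide +kernel
theorem edge4 : ∀ i : Fin 416, below 5 (edgeWord 4 i.val) = true ∧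
    mulP (gM 4) (repM i.val) = mulP (repM (piT 4 i.val)) (evP (edgeWord 4 i.val)) := by
  decide +kernel
theorem edge5 : ∀ i : Fin 416, below 5 (edgeWord 5 i.val) = true ∧
    mulP (gM 5) (repM i.val) = mulP (repM (piT 5 i.val)) (evP (edgeWord 5 i.val)) := by
  decide +kernel

theorem edge_ok (k : Fin 6) (i : Fin 416) : below 5 (edgeWord k.val i.val) = true ∧
    mulP (gM k.val) (repM i.val) = mulP (repM (piT k.val i.val)) (evP (edgeWord k.val i.val)) := by
  fin_cases k
  exacts [edge0 i, edge1 i, edge2 i, edge3 i, edge4 i, edge5 i]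

/-- The orbit of a coset. -/
def orbLab (x : ℕ) : ℕ := getW 2 orbLabN x
/-- The root of an orbit. -/
def orbRoot (c : ℕ) : ℕ := orbRoots.getD c 0
/-- A word from the root of the orbit. -/
def orbWord (x : ℕ) : List ℕ := unW (getW orbWordW orbWordN x)

theorem orb_ok : ∀ x : Fin 416, orbLab x.val < 3 ∧ below 5 (orbWord x.val) = true ∧
    evI (orbWord x.val) (orbRoot (orbLab x.val)) = x.val ∧ evI (orbWord x.val) 0 = 0 ∧
    (orbLab x.val = 0 → x.val = 0) := by
  decide +kernel

theorem orb_inv : ∀ k : Fin 5, ∀ x : Fin 416, orbLab (piT k.val x.val) = orbLab x.val := by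
  decide +kernel

theorem orb_root : ∀ c : Fin 3, orbRoot c.val < 416 ∧ orbLab (orbRoot c.val) = c.val := by decide +kernel

/-- The label of a class. -/
def subLab (o x : ℕ) : ℕ := getW 3 (if o = 1 then subLabN1 else subLabN2) x
/-- The root of a class. -/
def subRoot (o c : ℕ) : ℕ := (if o = 1 then subRoots1 else subRoots2).getD c 0
/-- A word fixing the root of the orbit. -/
def subWord (o x : ℕ) : List ℕ :=
  (unW (getW (if o = 1 then subWordW1 else subWordW2) (if o = 1 then subWordN1 else subWordN2) x)).flatMap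
    fun t => (if o = 1 then subWords1 else subWords2).getD t []
/-- The number of classes. -/
def subCnt (o : ℕ) : ℕ := if o = 1 then 3 else 6

theorem sub1_ok : ∀ x : Fin 416, orbLab x.val = 1 → subLab 1 x.val < subCnt 1 ∧
    below 5 (subWord 1 x.val) = true ∧ evI (subWord 1 x.val) (orbRoot 1) = orbRoot 1 ∧
    evI (subWord 1 x.val) (subRoot 1 (subLab 1 x.val)) = x.val := by
  decide +kernel

theorem sub2_ok : ∀ x : Fin 416, orbLab x.val = 2 → subLab 2 x.val < subCnt 2 ∧
    below 5 (subWord 2 x.val) = true ∧ evI (subWord 2 x.val) (orbRoot 2) = orbRoot 2 ∧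
    evI (subWord 2 x.val) (subRoot 2 (subLab 2 x.val)) = x.val := by
  decide +kernel

theorem subRoot_ok : ∀ c : Fin 6, subRoot 1 c.val < 416 ∧ subRoot 2 c.val < 416 := by decide +kernel

/-- The size of a union of classes. -/
def cnt (L : List (Fin 416)) (lab : ℕ → ℕ) (M : ℕ) : ℕ := L.countP fun x => M.testBit (lab x.val)
/-- An orbit. -/
def orbList (o : ℕ) : List (Fin 416) := (List.finRange 416).filter fun x => orbLab x.val == o
/-- No union of classes has the size of a block. -/
def maskOK (L : List (Fin 416)) (lab : ℕ → ℕ) (m p : ℕ) : Bool :=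
  (List.range (2 ^ m)).all fun M => !(M.testBit (lab p)) || (L.length % cnt L lab M != 0) ||
    cnt L lab M == 1 || cnt L lab M == L.length

theorem mask_all : maskOK (List.finRange 416) orbLab 3 0 = true := by decide +kernel
theorem mask_one : maskOK (orbList 1) (subLab 1) 3 (orbRoot 1) = true := by decide +kernel
theorem mask_two : maskOK (orbList 2) (subLab 2) 6 (orbRoot 2) = true := by decide +kernel
theorem orb_len : (orbList 1).length = 100 ∧ (orbList 2).length = 315 := by decide +kernel

theorem maskOK_spec {L : List (Fin 416)} {lab : ℕ → ℕ} {m p : ℕ} (h : maskOK L lab m p = true)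
    (M : ℕ) (hM : M < 2 ^ m) (hp : M.testBit (lab p) = true) (hd : cnt L lab M ∣ L.length) :
    cnt L lab M = 1 ∨ cnt L lab M = L.length := by
  have := List.all_eq_true.1 h M (List.mem_range.2 hM)
  simpa [hp, Nat.mod_eq_zero_of_dvd hd] using this

theorem below_lt {b : ℕ} {w : List ℕ} (h : below b w = true) : ∀ a ∈ w, a < b := by
  intro a ha
  have := List.all_eq_true.1 h a ha
  simpa [Nat.blt_eq] using this

end H57.G24J
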