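import Mathlib

/-! Maximality of a point stabiliser from the orbits of some of its elements. -/

set_option autoImplicit false

namespace H57.G24J

theorem exists_mask (P : ℕ → Prop) : ∀ m : ℕ, ∃ M, M < 2 ^ m ∧ ∀ c < m, (M.testBit c = true ↔ P c)
  | 0 => ⟨0, by simp, fun c hc => absurd hc (by omega)⟩
  | m + 1 => by
    classical
    obtain ⟨M, hM, h⟩ := exists_mask P m
    by_cases hP : P m
    · refine ⟨2 ^ m + M, by rw [pow_succ]; omega, fun c hc => ?_⟩
      rcases Nat.lt_succ_iff_lt_or_eq.1 hc with hc | rfl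
      · rw [Nat.testBit_two_pow_add_gt hc]; exact h c hc
      · rw [Nat.testBit_two_pow_add_eq, Nat.testBit_lt_two_pow hM]; simp [hP]
    · refine ⟨M, lt_of_lt_of_le hM (Nat.pow_le_pow_right two_pos (Nat.le_succ m)), fun c hc => ?_⟩
      rcases Nat.lt_succ_iff_lt_or_eq.1 hc with hc | rfl
      · exact h c hc
      · rw [Nat.testBit_lt_two_pow hM]; simp [hP]

theorem index_eq_ncard_orbit {A : Type*} [Group A] {α : Type*} (σ : A →* Equiv.Perm α) (p : α) :
    ((MulAction.stabilizer (Equiv.Perm α) p).comap σ).index = {x | ∃ a, σ a p = x}.ncard := by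
  let act : MulAction A α := MulAction.compHom α σ
  exact @MulAction.index_stabilizer A α _ act p

/-- A point stabiliser is maximal when no proper union of classes is a block. -/
theorem prim_coatom {A : Type*} [Group A] {n : ℕ} (σ : A →* Equiv.Perm (Fin n)) (p : Fin n)
    (O : List (Fin n)) (hnd : O.Nodup) (hO : ∀ x, x ∈ O ↔ ∃ a, σ a p = x) (h1 : 1 < O.length)
    (m : ℕ) (lab : Fin n → ℕ) (root : ℕ → Fin n)
    (hcls : ∀ x ∈ O, lab x < m ∧ ∃ a, σ a p = p ∧ σ a (root (lab x)) = x)
    (hmask : ∀ M, M < 2 ^ m → M.testBit (lab p) = true →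
      O.countP (fun x => M.testBit (lab x)) ∣ O.length →
      O.countP (fun x => M.testBit (lab x)) = 1 ∨ O.countP (fun x => M.testBit (lab x)) = O.length) :
    IsCoatom ((MulAction.stabilizer (Equiv.Perm (Fin n)) p).comap σ) := by
  classical
  set T := (MulAction.stabilizer (Equiv.Perm (Fin n)) p).comap σ with hT
  have hindex : T.index = O.length := by
    rw [hT, index_eq_ncard_orbit, show {x | ∃ a, σ a p = x} = ↑O.toFinset by ext x; simp [hO],
      Set.ncard_coe_finset, List.toFinset_card_of_nodup hnd]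
  refine ⟨fun h => by rw [h, Subgroup.index_top] at hindex; omega, fun K hK => ?_⟩
  let B : Fin n → Prop := fun x => ∃ k ∈ K, σ k p = x
  obtain ⟨M, hM, hbit⟩ := exists_mask (fun c => B (root c)) m
  have hiff : ∀ x ∈ O, (M.testBit (lab x) = true ↔ B x) := fun x hx => by
    obtain ⟨hl, a, hap, hax⟩ := hcls x hx
    have haK : a ∈ K := hK.le hap
    rw [hbit _ hl]
    constructor
    · rintro ⟨k, hk, e⟩
      exact ⟨a * k, mul_mem haK hk, by rw [map_mul, Equiv.Perm.mul_apply, e, hax]⟩
    · rintro ⟨k, hk, e⟩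
      exact ⟨a⁻¹ * k, mul_mem (inv_mem haK) hk, by
        rw [map_mul, Equiv.Perm.mul_apply, e, map_inv, Equiv.Perm.inv_eq_iff_eq]
        exact hax.symm⟩
  have hrel : T.relIndex K = O.countP (fun x => M.testBit (lab x)) := by
    have h := index_eq_ncard_orbit (σ.comp K.subtype) p
    rw [← Subgroup.comap_comap] at h
    refine h.trans ?_
    rw [List.countP_eq_length_filter, ← List.toFinset_card_of_nodup (hnd.filter _),
      ← Set.ncard_coe_finset]
    congr 1
    ext x
    simp only [Set.mem_setOf_eq, List.coe_toFinset, List.mem_filter]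
    constructor
    · rintro ⟨⟨k, hk⟩, rfl⟩
      exact ⟨(hO _).2 ⟨k, rfl⟩, (hiff _ ((hO _).2 ⟨k, rfl⟩)).2 ⟨k, hk, rfl⟩⟩
    · rintro ⟨hx, hb⟩
      obtain ⟨k, hk, e⟩ := (hiff x hx).1 hb
      exact ⟨⟨k, hk⟩, e⟩
  have hp : p ∈ O := (hO p).2 ⟨1, by simp⟩
  have hMp : M.testBit (lab p) = true := (hiff p hp).2 ⟨1, one_mem K, by simp⟩
  have hmul := Subgroup.relIndex_mul_index hK.le
  rw [hrel, hindex] at hmul
  rcases hmask M hM hMp ⟨_, hmul.symm⟩ with h | h
  · rw [← hrel, Subgroup.relIndex_eq_one] at h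
    exact absurd h (not_le_of_gt hK)
  · rw [h] at hmul
    exact Subgroup.index_eq_one.1 (Nat.eq_of_mul_eq_mul_left (by omega) (hmul.trans (mul_one _).symm))

end H57.G24J
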