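import Cfsg.Agent.H57.GTwoFour.Check
import Cfsg.Agent.H57.GTwoFour.Prim
import Cfsg.Agent.H91.J2Act
import Cfsg.Agent.S1055
import Cfsg.Agent.S1059

/-! The Hall–Janko group inside `G₂(4)` and the action on its cosets. -/

set_option autoImplicit false
set_option maxRecDepth 20000

noncomputable section

namespace H57.G24J

open H35.G24 Cfsg Cfsg.Lie

theorem dec_eq_decM (z : ℕ) (i j : Fin 6) : dec 6 z i j = decM z i j := by
  show K4.ofN (z >>> (2 * (6 * i.val + j.val))) = K4.ofN (dig j.val (row z i.val))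
  rw [row, dig_mod _ j.2, dig, ← Nat.shiftRight_add, show 12 * i.val + 2 * j.val = 2 * (6 * i.val + j.val) by ring,
    ofN_mod]

theorem g24_simple : IsSimpleGroup G24 :=
  (Cfsg.Agent.S1055.result (F := K4) ⟨K4.ofN 2, by decide +kernel, by decide +kernel⟩).1

theorem g24_card : Nat.card G24 = 251596800 := by
  have h := Cfsg.Agent.S1059.result (F := K4) (q := 4) K4.card_eq
  norm_num at h
  exact h

theorem exists_root (c : Fin 36) : ∃ u : G24,
    mat (u : GL chevG2.Idx K4) = toMat 14 ((genData[c.val]'(by rw [genData_len]; exact c.2)).g) ∧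
      rep u = decM (rootM c.val) := by
  obtain ⟨u, hu, -, hr⟩ := cert_facts (List.getElem_mem (l := genData) (n := c.val) (by rw [genData_len]; exact c.2))
  refine ⟨u, hu, ?_⟩
  ext i j
  exact (hr i j).trans (by rw [toMat_apply, root_ok c, dec_eq_decM])

/-- A root element. -/
def rootE (c : Fin 36) : G24 := (exists_root c).choose

theorem rep_rootE (c : Fin 36) : rep (rootE c) = decM (rootM c.val) := (exists_root c).choose_spec.2

theorem rep_injective {g h : G24} (e : rep g = rep h) : g = h := by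
  let R : G24 →* (Matrix (Fin 6) (Fin 6) K4)ˣ := rep.toHomUnits
  haveI := g24_simple
  rcases (inferInstance : R.ker.Normal).eq_bot_or_eq_top with h0 | h0
  · exact (MonoidHom.ker_eq_bot_iff R).1 h0 (Units.ext e)
  · exfalso
    have h1 : R (rootE 0) = 1 := MonoidHom.mem_ker.1 (h0 ▸ Subgroup.mem_top _)
    have h2 : rep (rootE 0) = 1 := congrArg Units.val h1
    rw [rep_rootE] at h2
    exact absurd h2 (by decide +kernel)

theorem rootE_closure : Subgroup.closure (Set.range rootE) = (⊤ : Subgroup G24) := by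
  have key : ∀ y ∈ chevG2.group K4, y ∈ (Subgroup.closure (Set.range rootE)).map (chevG2.group K4).subtype := by
    intro y hy
    rw [ChevalleyDatum.group] at hy
    refine (Subgroup.closure_le _).2 ?_ hy
    intro x hx
    obtain ⟨r, t, hxr⟩ := hx
    rcases cover_ok r t with ht | hc
    · have : x = 1 := by
        refine mat_injective ?_
        rw [mat_one]
        ext i j
        rw [mat, Matrix.submatrix_apply, hxr, ht, Matrix.one_apply]
        exact xMat_zero r i j
      rw [this]; exact one_mem _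
    · rw [List.any_eq_true] at hc
      obtain ⟨c, hc, he⟩ := hc
      simp only [Bool.and_eq_true, beq_iff_eq] at he
      obtain ⟨n, hn, rfl⟩ := List.getElem_of_mem hc
      have hn' : n < 36 := by rw [← genData_len]; exact hn
      refine ⟨rootE ⟨n, hn'⟩, Subgroup.subset_closure ⟨_, rfl⟩, ?_⟩
      refine mat_injective ((exists_root ⟨n, hn'⟩).choose_spec.1.trans ?_)
      have hrr : Fin.ofNat 12 (genData[n]).r = r := Fin.ext (by
        exact (congrArg (fun z => z % 12) he.1).trans (Nat.mod_eq_of_lt r.2))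
      have htt : K4.ofN (genData[n]).t = t := K4.equivFin.injective (Fin.ext (by
        exact (congrArg (fun z => z % 4) he.2).trans (Nat.mod_eq_of_lt t.v.2)))
      ext i j
      rw [mat, Matrix.submatrix_apply, hxr, toMat_apply, ← hrr, ← htt]
      exact (of_decide_eq_true (List.all_eq_true.1 xmatch_ok _ hc) i j).symm
  refine eq_top_iff.2 fun g _ => ?_
  obtain ⟨u, hu, e⟩ := key g g.2
  rwa [← Subtype.ext (a1 := u) e]

/-- A word in the root elements. -/
def rW (w : List ℕ) : G24 := (w.map fun a => rootE (Fin.ofNat 36 a)).prod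

theorem rep_rW : ∀ {w : List ℕ}, (∀ a ∈ w, a < 36) → rep (rW w) = decM (prodP (w.map rootM))
  | [], _ => (map_one rep).trans decM_one.symm
  | a :: w, h => by
    show rep (rootE (Fin.ofNat 36 a) * rW w) = decM (mulP (rootM a) (prodP (w.map rootM)))
    rw [map_mul, decM_mul, rep_rW fun b hb => h b (List.mem_cons_of_mem _ hb), rep_rootE]
    congr 2
    exact congrArg rootM (Nat.mod_eq_of_lt (h a List.mem_cons_self))

/-- The six generators. -/
def sG (k : Fin 6) : G24 := rW (genW.getD k.val [])

theorem rep_sG (k : Fin 6) : rep (sG k) = decM (gM k.val) := by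
  obtain ⟨h1, h2⟩ := genW_ok k
  rw [sG, rep_rW (below_lt h1), h2]

theorem sG_sq (k : Fin 6) : sG k * sG k = 1 :=
  rep_injective (by rw [map_mul, rep_sG, ← decM_mul, sq_ok, decM_one, map_one])

/-- A word in the generators. -/
def eW (w : List ℕ) : G24 := (w.map fun a => sG (Fin.ofNat 6 a)).prod

theorem rep_eW : ∀ {w : List ℕ}, (∀ a ∈ w, a < 6) → rep (eW w) = decM (evP w)
  | [], _ => (map_one rep).trans decM_one.symm
  | a :: w, h => by
    show rep (sG (Fin.ofNat 6 a) * eW w) = decM (mulP (gM a) (evP w))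
    rw [map_mul, decM_mul, rep_eW fun b hb => h b (List.mem_cons_of_mem _ hb), rep_sG]
    congr 2
    exact congrArg gM (Nat.mod_eq_of_lt (h a List.mem_cons_self))

theorem eW_eq {w : List ℕ} {g : G24} (h : below 6 w = true) (e : rep g = decM (evP w)) : g = eW w :=
  rep_injective (e.trans (rep_eW (below_lt h)).symm)

theorem sG_closure : Subgroup.closure (Set.range sG) = (⊤ : Subgroup G24) := by
  rw [eq_top_iff, ← rootE_closure, Subgroup.closure_le]
  rintro _ ⟨c, rfl⟩
  obtain ⟨h1, h2⟩ := rootW_ok c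
  rw [eW_eq (g := rootE c) h1 (by rw [rep_rootE, h2]), eW]
  refine list_prod_mem fun x hx => ?_
  obtain ⟨a, -, rfl⟩ := List.mem_map.1 hx
  exact Subgroup.subset_closure ⟨_, rfl⟩

/-- The five generators of the subgroup. -/
def hG (k : Fin 5) : G24 := sG k.castSucc

/-- The subgroup. -/
def HJ : Subgroup G24 := Subgroup.closure (Set.range hG)

theorem eW_mem {w : List ℕ} (h : below 5 w = true) : eW w ∈ HJ := by
  refine list_prod_mem fun x hx => ?_
  obtain ⟨a, ha, rfl⟩ := List.mem_map.1 hx
  have h5 := below_lt h a ha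
  exact Subgroup.subset_closure ⟨⟨a, h5⟩, congrArg sG (Fin.ext (Nat.mod_eq_of_lt (show a < 6 by omega)).symm)⟩

theorem below_mono {w : List ℕ} (h : below 5 w = true) : below 6 w = true :=
  List.all_eq_true.2 fun a ha => by have := below_lt h a ha; simp [Nat.blt_eq]; omega

/-! ### The involutions -/

/-- The involutions. -/
def uE (i : Fin 315) : G24 := eW (uWord i.val)

theorem uE_mem (i : Fin 315) : uE i ∈ HJ := eW_mem (uMat_ok i).1

theorem rep_uE (i : Fin 315) : rep (uE i) = decM (uMat i.val) := by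
  rw [uE, rep_eW (below_lt (below_mono (uMat_ok i).1)), (uMat_ok i).2]

theorem decM_uMat_inj : ∀ i j : Fin 315, decM (uMat i.val) = decM (uMat j.val) → i = j := by
  have hb : ∀ i, uMat i < 4096 ^ 6 := fun i => by
    refine lt_of_lt_of_le (Nat.mod_lt _ (by norm_num)) (le_of_eq ?_)
    norm_num
  have hdec : ∀ A, A < 4096 ^ 6 → ∀ B, B < 4096 ^ 6 → decM A = decM B → A = B := by
    intro A hA B hB h
    have hd : ∀ i j : Fin 6, dig j.val (row A i.val) = dig j.val (row B i.val) := fun i j => by
      have := congrArg (fun x : K4 => (x.v : ℕ)) (congrFun (congrFun h i) j)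
      simp only [decM, Matrix.of_apply, K4.ofN] at this
      rwa [Nat.mod_eq_of_lt (dig_lt _ _), Nat.mod_eq_of_lt (dig_lt _ _)] at this
    have hrow : ∀ i : Fin 6, row A i.val = row B i.val := fun i => by
      have h0 := hd i 0
      have h1 := hd i 1
      have h2 := hd i 2
      have h3 := hd i 3
      have h4 := hd i 4
      have h5 := hd i 5
      simp only [dig, row, Nat.shiftRight_eq_div_pow] at h0 h1 h2 h3 h4 h5 ⊢
      simp only [Fin.isValue, Fin.val_zero, Fin.val_one, Fin.val_two] at h0 h1 h2 h3 h4 h5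
      norm_num at h0 h1 h2 h3 h4 h5
      omega
    have g0 := hrow 0
    have g1 := hrow 1
    have g2 := hrow 2
    have g3 := hrow 3
    have g4 := hrow 4
    have g5 := hrow 5
    simp only [row, Nat.shiftRight_eq_div_pow] at g0 g1 g2 g3 g4 g5
    simp only [Fin.isValue, Fin.val_zero, Fin.val_one, Fin.val_two] at g0 g1 g2 g3 g4 g5
    norm_num at g0 g1 g2 g3 g4 g5 hA hB
    omega
  intro i j h
  have e := hdec _ (hb _) _ (hb _) h
  exact Fin.ext ((uMat_inj_ok.getElem_inj_iff (i := i.val) (j := j.val)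
    (hi := by simp) (hj := by simp)).1 (by simpa using e))

theorem uE_injective : Function.Injective uE := fun i j h =>
  decM_uMat_inj i j (by rw [← rep_uE, ← rep_uE, h])

theorem uE_gl (k : Fin 5) : uE (H91.J2A.gl k) = hG k := by
  refine rep_injective ?_
  rw [rep_uE, hG, rep_sG]
  exact congrArg decM (gl_ok k)

theorem conj_uE (k : Fin 5) (i : Fin 315) : hG k * uE i * (hG k)⁻¹ = uE (H91.J2A.act (H91.J2A.gen k) i) := by
  rw [hG, inv_eq_of_mul_eq_one_right (sG_sq k.castSucc)]
  refine rep_injective ?_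
  rw [map_mul, map_mul, rep_sG, rep_uE, rep_uE, ← decM_mul, ← decM_mul, H91.J2A.act_gen]
  exact congrArg decM (conj_ok k i)

/-- Pairs of an element and the permutation it induces. -/
def pairs : Subgroup (G24 × Equiv.Perm (Fin 315)) :=
  Subgroup.closure (Set.range fun k => (hG k, H91.J2A.act (H91.J2A.gen k)))

theorem pairs_spec {x : G24 × Equiv.Perm (Fin 315)} (hx : x ∈ pairs) (i : Fin 315) :
    x.1 * uE i * x.1⁻¹ = uE (x.2 i) := by
  induction hx using Subgroup.closure_induction generalizing i with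
  | mem x hx => obtain ⟨k, rfl⟩ := hx; exact conj_uE k i
  | one => simp
  | mul a b _ _ ha hb =>
    show a.1 * b.1 * uE i * (a.1 * b.1)⁻¹ = uE (a.2 (b.2 i))
    rw [← ha, ← hb]; group
  | inv a _ ha =>
    have := ha (a.2⁻¹ i)
    rw [← Equiv.Perm.mul_apply, mul_inv_cancel, Equiv.Perm.one_apply] at this
    show a.1⁻¹ * uE i * a.1⁻¹⁻¹ = uE (a.2⁻¹ i)
    rw [← this]; group

theorem pairs_fst : pairs.map (MonoidHom.fst G24 (Equiv.Perm (Fin 315))) = HJ := by
  rw [pairs, MonoidHom.map_closure, ← Set.range_comp]; rfl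

theorem pairs_snd : pairs.map (MonoidHom.snd G24 (Equiv.Perm (Fin 315))) = H91.J2A.act.range := by
  rw [pairs, MonoidHom.map_closure, ← Set.range_comp, MonoidHom.range_eq_map,
    ← H91.J2A.closure_gen, MonoidHom.map_closure, ← Set.range_comp]
  rfl

theorem card_act_range : Nat.card H91.J2A.act.range = 604800 := by
  rw [← Nat.card_congr (MonoidHom.ofInjective H91.J2A.act_injective).toEquiv, H96.J2.card_J2]

theorem fst_inj {x : G24 × Equiv.Perm (Fin 315)} (hx : x ∈ pairs) (h : x.1 = 1) : x = 1 := by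
  refine Prod.ext h (Equiv.ext fun i => ?_)
  have := pairs_spec hx i
  rw [h, one_mul, inv_one, mul_one] at this
  exact (uE_injective this).symm

/-- The pairs project isomorphically to the subgroup. -/
def pairsEquiv : ↥pairs ≃* ↥HJ :=
  (MonoidHom.ofInjective (f := (MonoidHom.fst G24 (Equiv.Perm (Fin 315))).comp pairs.subtype)
    ((injective_iff_map_eq_one _).2 fun x hx => Subtype.ext (fst_inj x.2 hx))).trans
    (MulEquiv.subgroupCongr (by rw [MonoidHom.range_comp, Subgroup.range_subtype, pairs_fst]))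

/-- The action on the involutions. -/
def hAct : ↥HJ →* ↥H91.J2A.act.range :=
  (((MonoidHom.snd G24 (Equiv.Perm (Fin 315))).comp pairs.subtype).codRestrict H91.J2A.act.range
    fun x => pairs_snd ▸ Subgroup.mem_map_of_mem _ x.2).comp pairsEquiv.symm.toMonoidHom

theorem hAct_surjective : Function.Surjective hAct := by
  rintro ⟨σ, hσ⟩
  rw [← pairs_snd] at hσ
  obtain ⟨x, hx, rfl⟩ := hσ
  refine ⟨pairsEquiv ⟨x, hx⟩, Subtype.ext ?_⟩
  show ((pairsEquiv.symm (pairsEquiv ⟨x, hx⟩) : ↥pairs) : G24 × Equiv.Perm (Fin 315)).2 = x.2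
  rw [MulEquiv.symm_apply_apply]

theorem HJ_ne_top : HJ ≠ ⊤ := by
  intro h
  let e : G24 ≃* ↥HJ := Subgroup.topEquiv.symm.trans (MulEquiv.subgroupCongr h.symm)
  let f : G24 →* ↥H91.J2A.act.range := hAct.comp e.toMonoidHom
  have hf : Function.Surjective f := hAct_surjective.comp e.surjective
  haveI := g24_simple
  rcases (inferInstance : f.ker.Normal).eq_bot_or_eq_top with h0 | h0
  · have := Nat.card_congr (Equiv.ofBijective f ⟨(MonoidHom.ker_eq_bot_iff f).1 h0, hf⟩)
    rw [g24_card, card_act_range] at this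
    omega
  · have h1 : Nat.card ↥H91.J2A.act.range = 1 := by
      rw [← Subgroup.card_top (G := ↥H91.J2A.act.range), ← MonoidHom.range_eq_top.2 hf]
      refine Nat.card_eq_one_iff_unique.2 ⟨⟨fun a b => Subtype.ext ?_⟩, inferInstance⟩
      obtain ⟨x, hx⟩ := a.2
      obtain ⟨y, hy⟩ := b.2
      rw [← hx, ← hy, MonoidHom.mem_ker.1 (h0 ▸ Subgroup.mem_top x), MonoidHom.mem_ker.1 (h0 ▸ Subgroup.mem_top y)]
    rw [card_act_range] at h1
    omega

end H57.G24J
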