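import Cfsg.Agent.H57.GTwoFour.Group
import Cfsg.Agent.H52.B2Two
import Cfsg.Prelude.Def_Spor_J2

/-! `G₂(4)` is extremely primitive on the cosets of the Hall–Janko subgroup. -/

set_option autoImplicit false
set_option maxRecDepth 20000

noncomputable section

namespace H57.G24J

open H35.G24 Cfsg Cfsg.Lie

/-- A generator on the cosets. -/
def piP (k : Fin 6) : Equiv.Perm (Fin 416) where
  toFun i := ⟨piT k.val i.val, (pi_ok k i).1⟩
  invFun i := ⟨piT k.val i.val, (pi_ok k i).1⟩
  left_inv i := Fin.ext (pi_ok k i).2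
  right_inv i := Fin.ext (pi_ok k i).2

/-- A word on the cosets. -/
def piW (w : List ℕ) : Equiv.Perm (Fin 416) := (w.map fun a => piP (Fin.ofNat 6 a)).prod

theorem piW_val : ∀ {w : List ℕ}, (∀ a ∈ w, a < 6) → ∀ x : Fin 416, (piW w x).val = evI w x.val
  | [], _, _ => rfl
  | a :: w, h, x => by
    show (piP (Fin.ofNat 6 a) (piW w x)).val = piT a (evI w x.val)
    show piT (Fin.ofNat 6 a).val (piW w x).val = _
    rw [piW_val fun b hb => h b (List.mem_cons_of_mem _ hb)]
    congr 1
    exact Nat.mod_eq_of_lt (h a List.mem_cons_self)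

/-- The representatives. -/
def rE (i : Fin 416) : G24 := eW (repWord i.val)

theorem rep_rE (i : Fin 416) : rep (rE i) = decM (repM i.val) := by
  rw [rE, rep_eW (below_lt (repWord_ok i).1), (repWord_ok i).2.1]

/-- A coset. -/
def fC (i : Fin 416) : G24 ⧸ HJ := ↑(rE i)

theorem fC_zero : fC 0 = ↑(1 : G24) := by
  rw [fC, rE, show repWord (0 : Fin 416).val = [] from rep_zero]; rfl

theorem smul_fC (k : Fin 6) (i : Fin 416) : sG k • fC i = fC (piP k i) := by
  obtain ⟨h5, he⟩ := edge_ok k i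
  have e : sG k * rE i = rE (piP k i) * eW (edgeWord k.val i.val) := rep_injective (by
    rw [map_mul, map_mul, rep_sG, rep_rE, rep_rE, rep_eW (below_lt (below_mono h5)), ← decM_mul, ← decM_mul]
    exact congrArg decM he)
  show ((sG k * rE i : G24) : G24 ⧸ HJ) = ↑(rE (piP k i))
  rw [e, QuotientGroup.mk_mul_of_mem _ (eW_mem h5)]

theorem smul_fC_word : ∀ (w : List ℕ) (i : Fin 416), eW w • fC i = fC (piW w i)
  | [], i => one_smul _ _
  | a :: w, i => by
    show (sG (Fin.ofNat 6 a) * eW w) • fC i = fC (piP (Fin.ofNat 6 a) (piW w i))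
    rw [mul_smul, smul_fC_word w, smul_fC]

theorem fC_surjective : Function.Surjective fC := by
  have key : ∀ g : G24, ∀ i, ∃ j, g • fC i = fC j := by
    intro g
    have hg : g ∈ Subgroup.closure (Set.range sG) := sG_closure ▸ Subgroup.mem_top g
    induction hg using Subgroup.closure_induction'' with
    | mem x hx => obtain ⟨k, rfl⟩ := hx; exact fun i => ⟨_, smul_fC k i⟩
    | inv_mem x hx =>
      obtain ⟨k, rfl⟩ := hx
      rw [inv_eq_of_mul_eq_one_right (sG_sq k)]
      exact fun i => ⟨_, smul_fC k i⟩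
    | one => exact fun i => ⟨i, one_smul _ _⟩
    | mul a b _ _ ha hb =>
      intro i
      obtain ⟨j, hj⟩ := hb i
      obtain ⟨l, hl⟩ := ha j
      exact ⟨l, by rw [mul_smul, hj, hl]⟩
  intro x
  obtain ⟨g, rfl⟩ := QuotientGroup.mk_surjective x
  obtain ⟨j, hj⟩ := key g 0
  refine ⟨j, ?_⟩
  rw [← hj, fC_zero]
  show ((g * 1 : G24) : G24 ⧸ HJ) = _
  rw [mul_one]

theorem fC_injective : Function.Injective fC := by
  classical
  have hP : ∀ i : Fin 416, fC i = eW (repWord i.val) • fC 0 ∧ piW (repWord i.val) 0 = i := fun i => by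
    have h : piW (repWord i.val) 0 = i :=
      Fin.ext ((piW_val (below_lt (repWord_ok i).1) 0).trans (repWord_ok i).2.2)
    exact ⟨by rw [smul_fC_word, h], h⟩
  have hfib : ∀ i : Fin 416, (Finset.univ.filter fun j => fC j = fC i).card =
      (Finset.univ.filter fun j => fC j = fC 0).card := by
    intro i
    refine (Finset.card_bij (fun j _ => piW (repWord i.val) j) ?_ ?_ ?_).symm
    · intro j hj
      simp only [Finset.mem_filter, Finset.mem_univ, true_and] at hj ⊢
      rw [← smul_fC_word, hj, ← (hP i).1]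
    · exact fun a _ b _ h => (piW _).injective h
    · intro j hj
      simp only [Finset.mem_filter, Finset.mem_univ, true_and] at hj
      refine ⟨(piW (repWord i.val)).symm j, ?_, Equiv.apply_symm_apply _ _⟩
      simp only [Finset.mem_filter, Finset.mem_univ, true_and]
      apply MulAction.injective (eW (repWord i.val))
      show eW (repWord i.val) • _ = eW (repWord i.val) • _
      rw [smul_fC_word, Equiv.apply_symm_apply, hj, (hP i).1]
  haveI : Finite G24 := Nat.finite_of_card_ne_zero (by rw [g24_card]; norm_num)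
  haveI : Fintype (G24 ⧸ HJ) := Fintype.ofFinite _
  have hsum : 416 = Fintype.card (G24 ⧸ HJ) * (Finset.univ.filter fun j => fC j = fC 0).card := by
    have h := Finset.card_eq_sum_card_fiberwise (f := fC) (s := (Finset.univ : Finset (Fin 416)))
      (t := Finset.univ) (fun x _ => Finset.mem_univ _)
    rw [Finset.card_univ, Fintype.card_fin] at h
    refine h.trans ?_
    rw [Finset.sum_const_nat (m := (Finset.univ.filter fun j => fC j = fC 0).card) ?_, Finset.card_univ]
    intro x _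
    obtain ⟨i, rfl⟩ := fC_surjective x
    exact hfib i
  obtain ⟨M, hM, hbit⟩ := exists_mask (fun c => ∃ hc : c < 3, fC ⟨orbRoot c, (orb_root ⟨c, hc⟩).1⟩ = fC 0) 3
  have hiff : ∀ x : Fin 416, M.testBit (orbLab x.val) = true ↔ fC x = fC 0 := by
    intro x
    obtain ⟨hl, h5, he, h0, -⟩ := orb_ok x
    set r : Fin 416 := ⟨orbRoot (orbLab x.val), (orb_root ⟨_, hl⟩).1⟩
    have hw : piW (orbWord x.val) r = x := Fin.ext ((piW_val (below_lt (below_mono h5)) r).trans he)
    have hw0 : piW (orbWord x.val) 0 = 0 := Fin.ext ((piW_val (below_lt (below_mono h5)) 0).trans h0)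
    rw [hbit _ hl]
    constructor
    · rintro ⟨_, e⟩
      rw [← hw, ← smul_fC_word, e, smul_fC_word, hw0]
    · intro e
      refine ⟨hl, MulAction.injective (eW (orbWord x.val)) ?_⟩
      show eW (orbWord x.val) • fC r = eW (orbWord x.val) • fC 0
      rw [smul_fC_word, smul_fC_word, hw, hw0, e]
  have hcnt : cnt (List.finRange 416) orbLab M = (Finset.univ.filter fun j => fC j = fC 0).card := by
    rw [cnt, List.countP_eq_length_filter, ← List.toFinset_card_of_nodup ((List.nodup_finRange 416).filter _)]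
    congr 1
    ext x
    simp [hiff x]
  rcases maskOK_spec mask_all M hM ((hiff 0).2 rfl)
      (by rw [hcnt, List.length_finRange]; exact Dvd.intro_left _ hsum.symm) with h | h
  · rw [hcnt] at h
    intro i j hij
    obtain ⟨a, ha⟩ := Finset.card_eq_one.1 ((hfib j).trans h)
    have h1 : i ∈ ({a} : Finset (Fin 416)) := ha ▸ Finset.mem_filter.2 ⟨Finset.mem_univ _, hij⟩
    have h2 : j ∈ ({a} : Finset (Fin 416)) := ha ▸ Finset.mem_filter.2 ⟨Finset.mem_univ _, rfl⟩
    rw [Finset.mem_singleton] at h1 h2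
    rw [h1, h2]
  · rw [hcnt, List.length_finRange] at h
    rw [h] at hsum
    have h1 : Fintype.card (G24 ⧸ HJ) = 1 := by omega
    exact absurd (Subgroup.index_eq_one.1 (by rw [Subgroup.index, Nat.card_eq_fintype_card, h1])) HJ_ne_top

/-- The cosets. -/
def fE : Fin 416 ≃ G24 ⧸ HJ := Equiv.ofBijective fC ⟨fC_injective, fC_surjective⟩

theorem card_HJ : Nat.card ↥HJ = 604800 := by
  have h := Subgroup.card_eq_card_quotient_mul_card_subgroup HJ
  rw [g24_card, ← Nat.card_congr fE, Nat.card_fin] at h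
  omega

theorem isoJ2_HJ : Cfsg.Spor.IsoJ2 ↥HJ := by
  haveI : Finite G24 := Nat.finite_of_card_ne_zero (by rw [g24_card]; norm_num)
  exact ⟨(MulEquiv.ofBijective hAct ((Nat.bijective_iff_surjective_and_card hAct).2
    ⟨hAct_surjective, card_HJ.trans card_act_range.symm⟩)).trans
    (MonoidHom.ofInjective H91.J2A.act_injective).symm⟩

/-- The action on the numbered cosets. -/
def tau : G24 →* Equiv.Perm (Fin 416) where
  toFun g := (fE.trans (MulAction.toPerm g)).trans fE.symm
  map_one' := Equiv.ext fun i => by simp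
  map_mul' g h := Equiv.ext fun i => by simp [mul_smul]

theorem fC_tau (g : G24) (i : Fin 416) : fC (tau g i) = g • fC i := fE.apply_symm_apply _

theorem tau_word (w : List ℕ) : tau (eW w) = piW w :=
  Equiv.ext fun i => fC_injective (by rw [fC_tau, smul_fC_word])

theorem mem_HJ_iff (g : G24) : g ∈ HJ ↔ tau g 0 = 0 := by
  rw [← fC_injective.eq_iff, fC_tau, fC_zero]
  show g ∈ HJ ↔ ((g * 1 : G24) : G24 ⧸ HJ) = ↑(1 : G24)
  rw [mul_one, QuotientGroup.eq, mul_one, inv_mem_iff]

theorem HJ_coatom : IsCoatom HJ := by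
  have h : HJ = (MulAction.stabilizer (Equiv.Perm (Fin 416)) (0 : Fin 416)).comap tau := by
    ext g; rw [mem_HJ_iff]; rfl
  rw [h]
  refine prim_coatom tau 0 (List.finRange 416) (List.nodup_finRange 416) (fun x => ?_)
    (by rw [List.length_finRange]; norm_num) 3 (fun x => orbLab x.val) (fun c => Fin.ofNat 416 (orbRoot c))
    (fun x _ => ?_) (fun M hM hp hd => maskOK_spec mask_all M hM hp hd)
  · refine ⟨fun _ => ⟨eW (repWord x.val), ?_⟩, fun _ => List.mem_finRange x⟩
    rw [tau_word]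
    exact Fin.ext ((piW_val (below_lt (repWord_ok x).1) 0).trans (repWord_ok x).2.2)
  · obtain ⟨hl, h5, he, h0, -⟩ := orb_ok x
    refine ⟨hl, eW (orbWord x.val), ?_, ?_⟩ <;> rw [tau_word] <;> apply Fin.ext <;>
      rw [piW_val (below_lt (below_mono h5))]
    · exact h0
    · show evI (orbWord x.val) (orbRoot (orbLab x.val) % 416) = _
      rw [Nat.mod_eq_of_lt (orb_root ⟨_, hl⟩).1]; exact he

theorem orbLab_tau {g : G24} (hg : g ∈ HJ) : ∀ x : Fin 416, orbLab (tau g x).val = orbLab x.val := by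
  induction hg using Subgroup.closure_induction'' with
  | mem y hy =>
    obtain ⟨k, rfl⟩ := hy
    intro x
    have : tau (hG k) x = piP k.castSucc x := fC_injective (by rw [fC_tau, hG, smul_fC])
    rw [this]; exact orb_inv k x
  | inv_mem y hy =>
    obtain ⟨k, rfl⟩ := hy
    intro x
    rw [hG, inv_eq_of_mul_eq_one_right (sG_sq k.castSucc)]
    have : tau (sG k.castSucc) x = piP k.castSucc x := fC_injective (by rw [fC_tau, smul_fC])
    rw [this]; exact orb_inv k x
  | one => intro x; rw [map_one]; rfl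
  | mul a b _ _ ha hb => intro x; rw [map_mul, Equiv.Perm.mul_apply, ha, hb]

theorem mem_orbit {c : ℕ} (hc : c < 3) {x : Fin 416} (hx : orbLab x.val = c) :
    ∃ a : ↥HJ, tau a (Fin.ofNat 416 (orbRoot c)) = x := by
  obtain ⟨-, h5, he, -, -⟩ := orb_ok x
  refine ⟨⟨eW (orbWord x.val), eW_mem h5⟩, ?_⟩
  rw [tau_word]
  refine Fin.ext ((piW_val (below_lt (below_mono h5)) _).trans ?_)
  show evI (orbWord x.val) (orbRoot c % 416) = _
  subst hx
  rw [show orbRoot (orbLab x.val) % 416 = orbRoot (orbLab x.val) from Nat.mod_eq_of_lt (orb_root ⟨_, hc⟩).1]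
  exact he

theorem orbit_iff {c : ℕ} (hc : c < 3) (x : Fin 416) :
    x ∈ orbList c ↔ ∃ a : ↥HJ, (tau.comp HJ.subtype) a (Fin.ofNat 416 (orbRoot c)) = x := by
  simp only [orbList, List.mem_filter, List.mem_finRange, true_and, beq_iff_eq]
  refine ⟨fun h => mem_orbit hc h, ?_⟩
  rintro ⟨a, rfl⟩
  show orbLab (tau a (Fin.ofNat 416 (orbRoot c))).val = c
  rw [orbLab_tau a.2]
  show orbLab (orbRoot c % 416) = c
  rw [Nat.mod_eq_of_lt (orb_root ⟨c, hc⟩).1]
  exact (orb_root ⟨c, hc⟩).2

theorem stab_coatom {o m : ℕ} (ho : o < 3) (hm : m ≤ 6) (hlen : 1 < (orbList o).length)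
    (hok : ∀ x : Fin 416, orbLab x.val = o → subLab o x.val < m ∧ below 5 (subWord o x.val) = true ∧
      evI (subWord o x.val) (orbRoot o) = orbRoot o ∧
      evI (subWord o x.val) (subRoot o (subLab o x.val)) = x.val)
    (hroot : ∀ c < 6, subRoot o c < 416)
    (hmask : maskOK (orbList o) (subLab o) m (orbRoot o) = true) :
    IsCoatom ((MulAction.stabilizer (Equiv.Perm (Fin 416)) (Fin.ofNat 416 (orbRoot o))).comap
      (tau.comp HJ.subtype)) := by
  have hr : orbRoot o % 416 = orbRoot o := Nat.mod_eq_of_lt (orb_root ⟨o, ho⟩).1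
  refine prim_coatom _ _ (orbList o) ((List.nodup_finRange 416).filter _) (orbit_iff ho) hlen m
    (fun x => subLab o x.val) (fun c => Fin.ofNat 416 (subRoot o c)) (fun x hx => ?_)
    (fun M hM hp hd => maskOK_spec hmask M hM (by
      have : (Fin.ofNat 416 (orbRoot o)).val = orbRoot o := hr
      simpa only [this] using hp) hd)
  simp only [orbList, List.mem_filter, beq_iff_eq] at hx
  obtain ⟨hl, h5, h0, he⟩ := hok x hx.2
  refine ⟨hl, ⟨eW (subWord o x.val), eW_mem h5⟩, ?_, ?_⟩ <;>
    show tau (eW (subWord o x.val)) _ = _ <;> rw [tau_word] <;> apply Fin.ext <;>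
    rw [piW_val (below_lt (below_mono h5))]
  · show evI (subWord o x.val) (orbRoot o % 416) = orbRoot o % 416
    rw [hr]; exact h0
  · show evI (subWord o x.val) (subRoot o (subLab o x.val) % 416) = _
    rw [Nat.mod_eq_of_lt (hroot _ (lt_of_lt_of_le hl hm))]; exact he

theorem inter_coatom {x : G24} (hx : x ∉ HJ) :
    IsCoatom ((HJ ⊓ HJ.map (MulAut.conj x).toMonoidHom).subgroupOf HJ) := by
  set σ := tau.comp HJ.subtype with hσ
  set i := tau x 0 with hi
  have hst : (HJ ⊓ HJ.map (MulAut.conj x).toMonoidHom).subgroupOf HJ =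
      (MulAction.stabilizer (Equiv.Perm (Fin 416)) i).comap σ := by
    ext h
    rw [Subgroup.mem_subgroupOf, Subgroup.mem_inf, Subgroup.mem_map_equiv, MulAut.conj_symm_apply,
      mem_HJ_iff (x⁻¹ * (h : G24) * x)]
    simp only [h.2, true_and, map_mul, map_inv, Equiv.Perm.mul_apply]
    rw [Equiv.Perm.inv_eq_iff_eq]
    exact Iff.rfl
  obtain ⟨c, hc, hci⟩ : ∃ c, c < 3 ∧ orbLab i.val = c := ⟨_, (orb_ok i).1, rfl⟩
  obtain ⟨a, ha⟩ := mem_orbit hc hci
  have hmap : (MulAction.stabilizer (Equiv.Perm (Fin 416)) i).comap σ =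
      ((MulAction.stabilizer (Equiv.Perm (Fin 416)) (Fin.ofNat 416 (orbRoot c))).comap σ).map
        (MulAut.conj a).toMonoidHom := by
    ext h
    rw [Subgroup.mem_map_equiv, MulAut.conj_symm_apply]
    show σ h i = i ↔ σ (a⁻¹ * h * a) (Fin.ofNat 416 (orbRoot c)) = Fin.ofNat 416 (orbRoot c)
    rw [map_mul, map_mul, map_inv, Equiv.Perm.mul_apply, Equiv.Perm.mul_apply, Equiv.Perm.inv_eq_iff_eq,
      show σ a (Fin.ofNat 416 (orbRoot c)) = i from ha]
  rw [hst, hmap]
  refine ((MulAut.conj a).mapSubgroup.isCoatom_iff _).2 ?_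
  interval_cases c
  · exfalso
    exact hx ((mem_HJ_iff x).2 (Fin.ext ((orb_ok i).2.2.2.2 hci)))
  · exact stab_coatom (by norm_num) (m := 3) (by norm_num) (by rw [orb_len.1]; norm_num) sub1_ok
      (fun c hc => (subRoot_ok ⟨c, hc⟩).1) mask_one
  · exact stab_coatom (by norm_num) (m := 6) (by norm_num) (by rw [orb_len.2]; norm_num) sub2_ok
      (fun c hc => (subRoot_ok ⟨c, hc⟩).2) mask_two

theorem extremely_primitive {F : Type*} [Field F] [Fintype F] (hF : Fintype.card F = 4) :
    ∃ H : Subgroup (chevG2.group F), IsCoatom H ∧ Cfsg.Spor.IsoJ2 H ∧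
      ∀ x : chevG2.group F, x ∉ H → IsCoatom ((H ⊓ H.map (MulAut.conj x).toMonoidHom).subgroupOf H) := by
  obtain ⟨e⟩ := H52.exists_group_congr chevG2
    (FiniteField.ringEquivOfCardEq (K := K4) (K' := F) (by rw [K4.card_eq, hF]))
  refine ⟨HJ.map e.toMonoidHom, (e.mapSubgroup.isCoatom_iff _).2 HJ_coatom,
    isoJ2_HJ.map fun j => (e.subgroupMap HJ).symm.trans j, ?_⟩
  intro x hx
  obtain ⟨x, rfl⟩ := e.surjective x
  have hx' : x ∉ HJ := fun h => hx (Subgroup.mem_map_of_mem _ h)
  have h := inter_coatom hx'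
  let φ : ↥HJ ≃* ↥(HJ.map e.toMonoidHom) := e.subgroupMap HJ
  have heq : (HJ.map e.toMonoidHom ⊓ (HJ.map e.toMonoidHom).map (MulAut.conj (e x)).toMonoidHom).subgroupOf
      (HJ.map e.toMonoidHom) = ((HJ ⊓ HJ.map (MulAut.conj x).toMonoidHom).subgroupOf HJ).map φ.toMonoidHom := by
    ext y
    obtain ⟨y, rfl⟩ := φ.surjective y
    have he : ∀ z : G24, e z ∈ HJ.map e.toMonoidHom ↔ z ∈ HJ := fun z => by
      rw [Subgroup.mem_map_equiv, MulEquiv.symm_apply_apply]
    rw [Subgroup.mem_map_equiv, MulEquiv.symm_apply_apply, Subgroup.mem_subgroupOf, Subgroup.mem_subgroupOf,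
      Subgroup.mem_inf, Subgroup.mem_inf, Subgroup.mem_map_equiv (f := MulAut.conj (e x)),
      Subgroup.mem_map_equiv (f := MulAut.conj x), MulAut.conj_symm_apply, MulAut.conj_symm_apply,
      show ((φ y : ↥(HJ.map e.toMonoidHom)) : chevG2.group F) = e y from rfl, ← map_inv, ← map_mul, ← map_mul,
      he, he]
  rw [heq]
  exact (φ.mapSubgroup.isCoatom_iff _).2 h

end H57.G24J
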